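import Groth.Agent.DiagRepLib.Scheme
import Groth.Agent.HopfOrdLib.Deligne
import Mathlib

/-!
# Finite locally free commutative group schemes over affine bases are killed by their rank
-/

set_option autoImplicit false
set_option linter.style.haveILetI false
set_option backward.isDefEq.respectTransparency false

universe u

open CategoryTheory CategoryTheory.Limits MonoidalCategory CartesianMonoidalCategory AlgebraicGeometry CoactBr WithConv
open scoped MonObj TensorProduct

noncomputable section

namespace DeligneKillLib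

variable {R : Type u} [CommRing R]

/-- Coordinate Hopf algebras of affine group schemes. -/
theorem exists_sp (G : Over (Spec (CommRingCat.of R))) [GrpObj G] [IsAffine G.left] :
    ∃ (A : Type u) (_ : CommRing A) (_ : HopfAlgebra R A) (v : sp R A ≅ G), IsMonHom v.hom ∧ IsMonHom v.inv := by
  obtain ⟨H, ⟨e⟩⟩ : (hopfSpec (CommRingCat.of R)).essImage (Grp.mk G) :=
    (essImage_hopfSpec (R := CommRingCat.of R) (G := Grp.mk G)).2 inferInstance
  exact ⟨H.unop.X, H.unop.commRing, H.unop.hopfAlgebra, (Grp.forget _).mapIso e,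
    e.hom.hom.isMonHom_hom, e.inv.hom.isMonHom_hom⟩

/-- Commutative affine group schemes have cocommutative coordinate rings. -/
theorem isCocomm_of_comm (A : Type u) [CommRing A] [HopfAlgebra R A]
    (h : ∀ (T : Over (Spec (CommRingCat.of R))) (a b : T ⟶ sp R A), a * b = b * a) : Coalgebra.IsCocomm R A := by
  let L : A →ₐ[R] A ⊗[R] A := Algebra.TensorProduct.includeLeft
  let Rt : A →ₐ[R] A ⊗[R] A := Algebra.TensorProduct.includeRight
  let c := (Algebra.TensorProduct.comm R A A).toAlgHom
  have hc : c.comp (Bialgebra.comulAlgHom R A) = Bialgebra.comulAlgHom R A := by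
    refine pt_injective (R := R) (B := A) (K := A ⊗[R] A) ?_
    have e : Bialgebra.comulAlgHom R A = (toConv L * toConv Rt).ofConv :=
      congrArg ofConv Groth.Agent.DiagRep.toConv_comul
    have e1 : c.comp (Bialgebra.comulAlgHom R A) = (toConv Rt * toConv L).ofConv := by
      rw [e, AlgHom.comp_convMul_distrib]
      congr 2 <;> (ext a; simp [c, L, Rt])
    rw [e1, e, ← Groth.Agent.DiagRep.pt_mul_conv, ← Groth.Agent.DiagRep.pt_mul_conv, h]
  exact ⟨LinearMap.ext fun a => DFunLike.congr_fun hc a⟩

/-- Powers of points correspond to convolution powers. -/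
theorem pt_pow (A C : Type u) [CommRing A] [Bialgebra R A] [CommRing C] [Algebra R C] (g : A →ₐ[R] C) (n : ℕ) :
    pt g ^ n = pt (toConv g ^ n).ofConv :=
  (map_pow Spec.mapMulEquiv (toConv g) n).symm

/-- A commutative finite locally free group over an affine base is killed by its rank. -/
theorem id_pow_eq_one (G : Over (Spec (CommRingCat.of R))) [GrpObj G] [IsCommMonObj G] [IsFinite G.hom] [Flat G.hom]
    [LocallyOfFinitePresentation G.hom] (r : ℕ) (hr : ∀ s, Scheme.Hom.finrank G.hom s = r) : (𝟙 G) ^ r = 1 := by
  haveI : IsAffine G.left := isAffine_of_isAffineHom G.hom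
  obtain ⟨A, _, _, v, hv, hv'⟩ := exists_sp G
  haveI := hv; haveI := hv'
  haveI : IsIso v.hom.left := (Over.forget _).map_isIso v.hom
  have hw : (sp R A).hom = v.hom.left ≫ G.hom := (Over.w v.hom).symm
  have hfin : IsFinite (sp R A).hom := by rw [hw]; infer_instance
  have hflat : Flat (sp R A).hom := by rw [hw]; infer_instance
  have hfp : LocallyOfFinitePresentation (sp R A).hom := by rw [hw]; infer_instance
  change IsFinite (Spec.map (CommRingCat.ofHom (algebraMap R A))) at hfin
  change Flat (Spec.map (CommRingCat.ofHom (algebraMap R A))) at hflat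
  change LocallyOfFinitePresentation (Spec.map (CommRingCat.ofHom (algebraMap R A))) at hfp
  rw [IsFinite.SpecMap_iff, CommRingCat.hom_ofHom, RingHom.finite_algebraMap] at hfin
  rw [Flat.SpecMap_iff, CommRingCat.hom_ofHom, RingHom.flat_algebraMap_iff] at hflat
  rw [HasRingHomProperty.Spec_iff (P := @LocallyOfFinitePresentation), CommRingCat.hom_ofHom, RingHom.finitePresentation_algebraMap] at hfp
  haveI := hfin; haveI := hflat; haveI := hfp
  haveI : Module.FinitePresentation R A := Module.FinitePresentation.of_finite_of_finitePresentation R A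
  haveI : Module.Projective R A := Module.Flat.projective_of_finitePresentation
  haveI : Coalgebra.IsCocomm R A := isCocomm_of_comm A fun T a b => by
    rw [← cancel_mono v.hom, MonObj.mul_comp, MonObj.mul_comp, mul_comm]
  have hrank : ∀ p : PrimeSpectrum R, Module.rankAtStalk A p = r := fun p => by
    rw [← Scheme.Hom.finrank_SpecMap_algebraMap R A p, ← hr p]
    have : Spec.map (CommRingCat.ofHom (algebraMap R A)) = v.hom.left ≫ G.hom := hw
    rw [this, Scheme.Hom.finrank_comp_left_of_isIso]
  have h1 : (𝟙 (sp R A)) ^ r = 1 := by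
    rw [← pt_id, pt_pow, HopfOrdLib.convPow_id_eq_one hrank, ← Groth.Agent.DiagRep.pt_one]
    rfl
  calc (𝟙 G) ^ r = (v.inv ≫ 𝟙 (sp R A) ≫ v.hom) ^ r := by simp
    _ = v.inv ≫ (((𝟙 (sp R A)) ^ r) ≫ v.hom) := by rw [MonObj.pow_comp, MonObj.comp_pow]
    _ = 1 := by rw [h1, MonObj.one_comp, MonObj.comp_one]

end DeligneKillLib
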