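import Groth.Agent.DeligneKillLib.Affine
import Groth.Agent.MonoQuotLib.Orbit
import Groth.Agent.S12442
import Groth.Agent.OrbitLib.Dim
import Groth.Agent.SubDescLib.Main
import Groth.Agent.AbSchLib.MulN
import Groth.Agent.S7785
import Groth.Agent.S7788

/-!
# Isogenies of abelian schemes divide their degree
-/

set_option autoImplicit false
set_option linter.style.haveILetI false
set_option backward.isDefEq.respectTransparency false

universe u

open CategoryTheory CategoryTheory.Limits MonoidalCategory CartesianMonoidalCategory AlgebraicGeometry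
open scoped MonObj

noncomputable section

namespace DeligneKillLib

variable {S : Scheme.{u}}

/-- A commutative finite locally free group scheme is killed by its rank. -/
theorem id_pow_eq_one_base (G : Over S) [GrpObj G] [IsCommMonObj G] [IsFinite G.hom] [Flat G.hom]
    [LocallyOfFinitePresentation G.hom] (r : ℕ) (hr : ∀ s : S, Scheme.Hom.finrank G.hom s = r) : (𝟙 G) ^ r = 1 := by
  apply Over.OverMorphism.ext
  refine Scheme.Cover.hom_ext (S.affineOpenCover.openCover.pullback₁ G.hom) _ _ fun i => ?_
  let j : Spec (CommRingCat.of (S.affineOpenCover.X i : Type u)) ⟶ S := S.affineOpenCover.f i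
  let F := Over.pullback j
  letI : GrpObj (F.obj G) := Functor.grpObjObj
  haveI : IsCommMonObj (F.obj G) := Functor.isCommMonObj_obj (F := F)
  haveI : IsFinite (F.obj G).hom := inferInstanceAs (IsFinite (pullback.snd G.hom j))
  haveI : Flat (F.obj G).hom := inferInstanceAs (Flat (pullback.snd G.hom j))
  haveI : LocallyOfFinitePresentation (F.obj G).hom := inferInstanceAs (LocallyOfFinitePresentation (pullback.snd G.hom j))
  have h := id_pow_eq_one (F.obj G) r fun s => (Scheme.Hom.finrank_pullback_snd G.hom j s).trans (hr _)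
  have h2 : F.map ((𝟙 G) ^ r) = F.map (1 : G ⟶ G) := by
    rw [show F.map ((𝟙 G) ^ r) = (F.map (𝟙 G)) ^ r from map_pow (Functor.homMonoidHom F) (𝟙 G) r, F.map_id, h,
      Functor.map_one]
  have h3 := congrArg (fun m : F.obj G ⟶ F.obj G => m.left ≫ pullback.fst G.hom j) h2
  simp only [F, Over.pullback_map_left, pullback.lift_fst] at h3
  exact h3

/-- A commutative finite locally free group scheme is killed by its rank, on points. -/
theorem pow_eq_one (G : Over S) [GrpObj G] [IsCommMonObj G] [IsFinite G.hom] [Flat G.hom]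
    [LocallyOfFinitePresentation G.hom] (r : ℕ) (hr : ∀ s : S, Scheme.Hom.finrank G.hom s = r) {T : Over S} (g : T ⟶ G) :
    g ^ r = 1 := by
  rw [← Category.comp_id g, ← MonObj.comp_pow, id_pow_eq_one_base G r hr, MonObj.comp_one]

/-- Powers of homomorphisms into commutative groups. -/
theorem isMonHom_pow {X : Over S} [GrpObj X] [IsCommMonObj X] (n : ℕ) : IsMonHom ((𝟙 X) ^ n) := by
  rw [← zpow_natCast]
  exact AbSchLib.isMonHom_zpow X (n : ℤ)

/-- An isogeny divides multiplication by its degree. -/
theorem exists_factor_mul (X Y : Over S) [GrpObj X] [IsCommMonObj X] [GrpObj Y] [LocallyOfFinitePresentation X.hom]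
    [IsSeparated X.hom] [LocallyOfFinitePresentation Y.hom] (f : X ⟶ Y) [IsMonHom f] [IsFinite f.left] [Flat f.left]
    [Surjective f.left] (n : ℕ) (hdeg : ∀ s : S, Scheme.Hom.finrank f.left (η[Y].left s) = n) :
    ∃! g : Y ⟶ X, IsMonHom g ∧ f ≫ g = (𝟙 X) ^ n := by
  haveI : LocallyOfFinitePresentation (f.left ≫ Y.hom) := by rw [Over.w f]; infer_instance
  haveI : LocallyOfFinitePresentation f.left := Groth.Agent.S12442.lfp_of_comp_lft f.left Y.hom
  let e : 𝟙_ (Over S) ⟶ Y := η[Y]
  let K : Over S := Over.mk (pullback.snd f.left e.left)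
  let i : K ⟶ X := Over.homMk (pullback.fst f.left e.left) (by
    show pullback.fst f.left e.left ≫ X.hom = pullback.snd f.left e.left
    rw [← Over.w f, pullback.condition_assoc, Over.w e]
    exact Category.comp_id _)
  haveI : Mono e.left := by
    haveI : IsSplitMono e.left := IsSplitMono.mk' ⟨Y.hom, Over.w e⟩
    infer_instance
  haveI : Mono i.left := inferInstanceAs (Mono (pullback.fst f.left e.left))
  haveI : Mono i := Over.mono_of_mono_left i
  have hlift : ∀ {T : Over S} (t : T ⟶ X), t ≫ f = 1 → ∃ l : T ⟶ K, l ≫ i = t := by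
    intro T t ht
    refine ⟨Over.homMk (pullback.lift t.left T.hom ?_) (pullback.lift_snd _ _ _), Over.OverMorphism.ext (pullback.lift_fst _ _ _)⟩
    exact congrArg CommaMorphism.left ht
  have hif : ∀ {T : Over S} (l : T ⟶ K), (l ≫ i) ≫ f = 1 := by
    intro T l
    apply Over.OverMorphism.ext
    show (l.left ≫ pullback.fst f.left e.left) ≫ f.left = (toUnit T).left ≫ e.left
    rw [Category.assoc, pullback.condition, ← Category.assoc]
    congr 1
    exact Over.w l
  have hk : ∀ {T : Over S} (t : T ⟶ X), t ≫ f = 1 → t ^ n = 1 := by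
    intro T t ht
    haveI : IsFinite K.hom := inferInstanceAs (IsFinite (pullback.snd f.left e.left))
    haveI : Flat K.hom := inferInstanceAs (Flat (pullback.snd f.left e.left))
    haveI : LocallyOfFinitePresentation K.hom := inferInstanceAs (LocallyOfFinitePresentation (pullback.snd f.left e.left))
    obtain ⟨_, hmon⟩ := Groth.Agent.SubDesc.exists_grpObj_of_mono i
      (hlift _ (by rw [MonObj.mul_comp, hif, hif, mul_one]))
      (hlift _ (by rw [MonObj.one_comp]))
      (hlift _ (by rw [GrpObj.inv_comp, ← Category.id_comp i, hif, inv_one]))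
    haveI := hmon
    haveI : IsCommMonObj K := (isCommMonObj_iff_isMulCommutative K).2 fun T => ⟨⟨fun a b => by
      rw [← cancel_mono i, MonObj.mul_comp, MonObj.mul_comp, mul_comm]⟩⟩
    obtain ⟨l, rfl⟩ := hlift t ht
    rw [← MonObj.pow_comp, pow_eq_one K n (fun s => (Scheme.Hom.finrank_pullback_snd f.left e.left s).trans (hdeg s)) l,
      MonObj.one_comp]
  haveI : Epi f := Groth.Agent.MonoQuot.epi_over f
  obtain ⟨g, hg⟩ := Groth.Agent.MonoQuot.exists_desc_over f ((𝟙 X) ^ n) fun T a b hab => by
    rw [MonObj.comp_pow, MonObj.comp_pow, Category.comp_id, Category.comp_id, ← mul_inv_eq_one, ← inv_pow, ← mul_pow]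
    exact hk _ (by rw [MonObj.mul_comp, GrpObj.inv_comp, hab, mul_inv_cancel])
  haveI := isMonHom_pow (X := X) n
  refine ⟨g, ⟨?_, hg⟩, fun g' hg' => (cancel_epi f).1 (hg'.2.trans hg.symm)⟩
  constructor
  · rw [← IsMonHom.one_hom (f := f), Category.assoc, hg, IsMonHom.one_hom]
  · obtain ⟨h1, h2, h3⟩ := Groth.Agent.MonoQuot.fppf_tensor f f
    haveI := h1; haveI := h2; haveI := h3
    haveI : Epi (f ⊗ₘ f) := Groth.Agent.MonoQuot.epi_over (f ⊗ₘ f)
    rw [← cancel_epi (f ⊗ₘ f), ← Category.assoc, ← IsMonHom.mul_hom (f := f), Category.assoc, hg, IsMonHom.mul_hom,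
      ← Category.assoc (f ⊗ₘ f), tensorHom_comp_tensorHom, hg]

/-- Fibre dimensions of an abelian scheme are natural numbers. -/
theorem exists_dim (X : Over S) [GrpObj X] [IsProper X.hom] :
    ∃ g : S → ℕ, ∀ s : S, topologicalKrullDim ↥(X.hom.fiber s) = g s := by
  choose g hg using fun s : S => by
    let F : Over (Spec (CommRingCat.of (S.residueField s))) := Over.mk (X.hom.fiberToSpecResidueField s)
    haveI : IsProper F.hom := inferInstanceAs (IsProper (pullback.snd X.hom (S.fromSpecResidueField s)))
    haveI : CompactSpace F.left := QuasiCompact.compactSpace_of_compactSpace F.hom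
    haveI : Nonempty F.left := by
      obtain ⟨a, -, -⟩ := Scheme.Pullback.exists_preimage_pullback (f := X.hom) (g := S.fromSpecResidueField s)
        ((η[X] : 𝟙_ (Over S) ⟶ X).left s) default (by
          rw [Scheme.fromSpecResidueField_apply, ← Scheme.Hom.comp_apply, Over.w]; rfl)
      exact ⟨a⟩
    exact OrbitLib.exists_dim_eq_nat F
  exact ⟨g, hg⟩

end DeligneKillLib
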